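import Mathlib

/-!
Cofiltered limits of schemes integral over a base are integral over the base.
-/

set_option autoImplicit false
set_option backward.isDefEq.respectTransparency false
set_option backward.isDefEq.respectTransparency.types false
set_option linter.style.haveILetI false

universe u

open CategoryTheory CategoryTheory.Limits AlgebraicGeometry

noncomputable section

namespace Groth.Agent.EtProFin

theorem isIntegralHom_limit {I : Type u} [SmallCategory I] [IsCofiltered I] (D : I ⥤ Scheme.{u}) (c : Cone D)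
    (hc : IsLimit c) [∀ {i j} (f : i ⟶ j), IsAffineHom (D.map f)] {S : Scheme.{u}} (g : ∀ i, D.obj i ⟶ S)
    (h : c.pt ⟶ S) (hg : ∀ i, c.π.app i ≫ g i = h) (hD : ∀ {i j} (f : i ⟶ j), D.map f ≫ g j = g i)
    [∀ i, IsIntegralHom (g i)] : IsIntegralHom h := by
  obtain ⟨i⟩ := IsCofiltered.nonempty (C := I)
  obtain rfl := (hg i).symm
  haveI := isAffineHom_π_app D c hc i
  haveI : IsAffineHom (g i) := inferInstance
  refine { toIsAffineHom := inferInstance, isIntegral_app := fun U hU r => ?_ }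
  set V : (D.obj i).Opens := g i ⁻¹ᵁ U with hVdef
  have hV : IsAffineOpen V := hU.preimage (g i)
  have (j : _) : IsAffine ((opensDiagram D i V).op.obj j).unop := hV.preimage _
  have (j : _) : IsAffine ((opensDiagram D i V).obj j) := hV.preimage _
  obtain ⟨⟨j⟩, s, hs⟩ := (Types.jointly_surjective_of_isColimit (isColimitOfPreserves
    (Scheme.Γ ⋙ forget _) (isLimitOpensCone D c hc i V).op) ((c.π.app i ⁻¹ᵁ V).topIso.inv r))
  obtain ⟨s, rfl⟩ := (D.map j.hom ⁻¹ᵁ V).topIso.symm.commRingCatIsoToRingEquiv.surjective s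
  have h : c.π.app j.left ⁻¹ᵁ D.map j.hom ⁻¹ᵁ V = c.π.app i ⁻¹ᵁ V := congr($(c.w j.hom) ⁻¹ᵁ V)
  have hr : r = (c.π.app j.left).appLE (D.map j.hom ⁻¹ᵁ V) (c.π.app i ⁻¹ᵁ V) h.ge s := by
    convert!
      show r = ((Scheme.Opens.topIso _).inv ≫ ((opensCone D c i V).π.app j).appTop ≫ (Scheme.Opens.topIso _).hom) s from
        (c.π.app i ⁻¹ᵁ V).topIso.commRingCatIsoToRingEquiv.symm_apply_eq.mp hs.symm using 3
    simp [Scheme.Hom.app_eq_appLE, Scheme.Hom.resLE_appLE, Scheme.Opens.topIso]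
  have hint : IsIntegralHom (D.map j.hom ≫ g i) := by rw [hD]; infer_instance
  obtain ⟨p, hp, hp0⟩ := hint.isIntegral_app U hU s
  have hcomp : (D.map j.hom ≫ g i).app U ≫ (c.π.app j.left).appLE (D.map j.hom ⁻¹ᵁ V) (c.π.app i ⁻¹ᵁ V) h.ge =
      (c.π.app i ≫ g i).app U := by
    have e : c.π.app j.left ≫ D.map j.hom = c.π.app i := c.w j.hom
    rw [Scheme.Hom.app_eq_appLE, Scheme.Hom.app_eq_appLE]
    erw [Scheme.Hom.appLE_comp_appLE]
    congr 1
    simp [← Category.assoc, e]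
  refine ⟨p, hp, ?_⟩
  rw [hr, ← hcomp]
  show Polynomial.eval₂ (((c.π.app j.left).appLE (D.map j.hom ⁻¹ᵁ V) (c.π.app i ⁻¹ᵁ V) h.ge).hom.comp
    ((D.map j.hom ≫ g i).app U).hom) _ p = 0
  rw [← Polynomial.hom_eval₂, hp0, map_zero]

end Groth.Agent.EtProFin
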