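import Groth.Agent.EtProFin.Integral
import Groth.Agent.EtTrace.Unique
import Groth.Agent.EtMemRange.Main
import Groth.Agent.EtLimit.Systems
import Groth.Agent.EtAcycX.Descend
import Groth.Agent.EtAcycX.Restrict
import Groth.Agent.EtIntegral.Push
import Groth.Agent.EtMV.HofPush

/-!
Cohomology and finite etale covers of degree prime to `ℓ`.
-/

set_option autoImplicit false
set_option backward.isDefEq.respectTransparency false
set_option backward.isDefEq.respectTransparency.types false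
set_option linter.unusedSectionVars false
set_option linter.auxLemma false
set_option linter.overlappingInstances false
set_option linter.style.haveILetI false
set_option maxHeartbeats 1000000

universe u

open CategoryTheory CategoryTheory.Limits CategoryTheory.Abelian AlgebraicGeometry Opposite

noncomputable section

namespace Groth.Agent.EtProFin

attribute [local instance 100000] EtCoh.H._proof_1 Groth.Agent.EtMV.hext
attribute [local instance 200000] Groth.Agent.EtMV.hextAb
attribute [local instance 300000] CategoryTheory.Preadditive.preadditiveHasZeroMorphisms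
  CategoryTheory.Abelian.toPreadditive

open Groth.Agent.EtIntegral (Lifts)

variable {X S : Scheme.{u}}

theorem deg_etale (f : X ⟶ S) [Etale f] {Ω : Type u} [Field Ω]
    (ξ : Spec (CommRingCat.of Ω) ⟶ X) : EtTrace.deg f ξ = 1 := by
  unfold EtTrace.deg Weighting.lengthWeight
  rw [Weighting.insepDeg_eq_one, Nat.cast_one, mul_one]
  have h1 : Weighting.fibreLength f (Weighting.pt ξ) = 1 := by
    unfold Weighting.fibreLength
    rw [Weighting.map_stalk_maximalIdeal]
    exact Module.length_eq_one_iff.2 ((isSimpleModule_iff_isCoatom).2 (Ideal.isMaximal_def.1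
      (IsLocalRing.maximalIdeal.isMaximal _)))
  rw [h1]
  rfl

theorem finrank_eq (f : X ⟶ S) [IsFinite f] [Etale f] {d : ℕ}
    (hdeg : ∀ (Ω : Type u) [Field Ω] [IsAlgClosed Ω] (η : Spec (CommRingCat.of Ω) ⟶ S),
      Nat.card {t : Spec (CommRingCat.of Ω) ⟶ X // t ≫ f = η} = d) (s : S) : f.finrank s = d := by
  classical
  let Ω := AlgebraicClosure (S.residueField s)
  let η : Spec (CommRingCat.of Ω) ⟶ S :=
    Spec.map (CommRingCat.ofHom (algebraMap (S.residueField s) Ω)) ≫ S.fromSpecResidueField s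
  have hpt : Weighting.pt η = s := by
    rw [← EtTrace.pt_default η]
    show (Spec.map _ ≫ S.fromSpecResidueField s) _ = s
    rw [Scheme.Hom.comp_apply]
    exact Scheme.fromSpecResidueField_apply s _
  have h := EtTrace.sum_deg f η
  haveI : Finite (Lifts f η) := EtIntegral.finite_lifts f η
  letI := Fintype.ofFinite (Lifts f η)
  simp only [deg_etale] at h
  rw [finsum_eq_sum_of_fintype, Finset.sum_const, Finset.card_univ, nsmul_one, hpt] at h
  have hc : Fintype.card (Lifts f η) = d := by rw [← Nat.card_eq_fintype_card]; exact hdeg Ω η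
  rw [hc] at h
  exact_mod_cast h.symm

theorem isIso_nsmul_id {ℓ d : ℕ} (hℓ : ℓ.Prime) (hd : ℓ.Coprime d) (G : EtCoh.Ab S)
    (hG : EtAcyc.IsLTorsion {ℓ} G) : IsIso (d • 𝟙 G) := by
  have hP : EtStalk.Covers (X := S) fun Ω _ _ _ => IsAlgClosed Ω := fun s =>
    ⟨AlgebraicClosure (S.residueField s), inferInstance, inferInstance,
      (Scheme.SpecToEquivOfField (AlgebraicClosure (S.residueField s)) S).symm
        ⟨s, CommRingCat.ofHom (algebraMap (S.residueField s) _)⟩, inferInstance,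
      by simp [Scheme.SpecToEquivOfField]⟩
  have hb : ∀ (Ω : Type u) [Field Ω] [IsSepClosed Ω] (ξ : Spec (CommRingCat.of Ω) ⟶ S), IsAlgClosed Ω →
      Function.Bijective ((EtCoh.stalk ξ).map (d • 𝟙 G)) := by
    intro Ω _ _ ξ hΩ
    have hmul : ∀ g, (EtCoh.stalk ξ).map (d • 𝟙 G) g = d • g := fun g => by
      rw [Functor.map_nsmul, CategoryTheory.Functor.map_id]
      clear hd
      induction d with
      | zero => simp
      | succ k ih => rw [succ_nsmul, succ_nsmul, ← ih]; rfl
    have hk : ∀ g : (EtCoh.stalk ξ).obj G, ∃ a : ℤ, a • (d • g) = g := fun g => by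
      obtain ⟨m, hm, h0⟩ := (Groth.Agent.S8525.result {ℓ} G).1 hG Ω ξ g
      have hcop : Nat.Coprime d m := Nat.coprime_of_dvd fun p hp hpd hpm => by
        obtain rfl : p = ℓ := hm.2 p hp hpm
        exact (hp.coprime_iff_not_dvd.1 hd) hpd
      refine ⟨Nat.gcdA d m, ?_⟩
      have e := Nat.gcd_eq_gcd_ab d m
      rw [show Nat.gcd d m = 1 from hcop, Nat.cast_one] at e
      conv_rhs => rw [← one_zsmul g, e, add_zsmul, mul_comm, mul_zsmul, mul_comm, mul_zsmul, natCast_zsmul,
        natCast_zsmul, h0, zsmul_zero, add_zero]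
    refine ⟨fun a b hab => ?_, fun b => ?_⟩
    · rw [hmul, hmul] at hab
      obtain ⟨x, hx⟩ := hk (a - b)
      rw [← sub_eq_zero, ← hx, smul_sub, hab, sub_self, smul_zero]
    · obtain ⟨x, hx⟩ := hk b
      exact ⟨x • b, by rw [hmul, smul_comm, hx]⟩
  haveI : Presheaf.IsLocallyInjective S.smallEtaleTopology (d • 𝟙 G).hom :=
    EtStalk.isLocallyInjective_of_covers _ hP fun Ω _ _ ξ h => (hb Ω ξ h).1
  haveI : Sheaf.IsLocallySurjective (d • 𝟙 G) :=
    EtStalk.isLocallySurjective_of_covers _ hP fun Ω _ _ ξ h => (hb Ω ξ h).2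
  haveI : Mono (d • 𝟙 G) := Sheaf.mono_of_isLocallyInjective _
  haveI : Epi (d • 𝟙 G) := Sheaf.epi_of_isLocallySurjective _
  exact isIso_of_mono_of_epi _

/-- pulling back is composition with the unit, read through the direct image -/
theorem HofPush_unit (f : X ⟶ S) [PreservesFiniteLimits (EtCoh.pull f)] (G : EtCoh.Ab S) (n : ℕ)
    (x : EtCoh.H S G n) :
    EtLim.HofPush f ((EtCoh.pull f).obj G) n
        (Ext.comp x (Ext.mk₀ ((EtCoh.pullPushAdj f).unit.app G)) (add_zero n)) = EtCore.Hpull f G n x := by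
  show Ext.comp (EtCore.Hpull f _ n (Ext.comp x (Ext.mk₀ ((EtCoh.pullPushAdj f).unit.app G)) (add_zero n)))
    (Ext.mk₀ ((EtCoh.pullPushAdj f).counit.app ((EtCoh.pull f).obj G))) (add_zero n) = _
  rw [EtAcycX.Hpull_comp_mk₀, Ext.comp_assoc_of_second_deg_zero, Ext.mk₀_comp_mk₀,
    (EtCoh.pullPushAdj f).left_triangle_components, Ext.comp_mk₀_id]

/-- pulling back along a finite etale cover of degree prime to `ℓ` is injective on cohomology -/
theorem Hpull_injective (f : X ⟶ S) [IsFinite f] [Etale f] [PreservesFiniteLimits (EtCoh.pull f)] {ℓ d : ℕ}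
    (hℓ : ℓ.Prime) (hd : ℓ.Coprime d)
    (hdeg : ∀ (Ω : Type u) [Field Ω] [IsAlgClosed Ω] (η : Spec (CommRingCat.of Ω) ⟶ S),
      Nat.card {t : Spec (CommRingCat.of Ω) ⟶ X // t ≫ f = η} = d)
    (G : EtCoh.Ab S) (hG : EtAcyc.IsLTorsion {ℓ} G) (n : ℕ) (x : EtCoh.H S G n)
    (hx : EtCore.Hpull f G n x = 0) : x = 0 := by
  have h1 : Ext.comp x (Ext.mk₀ ((EtCoh.pullPushAdj f).unit.app G)) (add_zero n) = 0 :=
    (EtMV.HofPush_bijective f _ (fun k => EtIntegral.Rpush_succ_isZero f _ k) n).1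
      ((HofPush_unit f G n x).trans (hx.trans (map_zero _).symm))
  haveI := isIso_nsmul_id hℓ hd G hG
  refine (EtAcycX.bijective_comp_iso (X := EtCoh.const S ℤ) (d • 𝟙 G) n).1 ?_
  show Ext.comp x (Ext.mk₀ (d • 𝟙 G)) (add_zero n) = Ext.comp (0 : EtCoh.H S G n) _ (add_zero n)
  rw [Ext.zero_comp, ← EtTrace.unit_tr f d (finrank_eq f hdeg) G, ← Ext.mk₀_comp_mk₀,
    ← Ext.comp_assoc_of_second_deg_zero]
  rw [h1, Ext.zero_comp]

/-- pulling back along a limit of finite etale covers of degree prime to `ℓ` is injective on cohomology -/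
theorem Hpull_limit_injective [CompactSpace S] [QuasiSeparatedSpace S] {I : Type u} [SmallCategory I]
    [IsCofiltered I] (D : I ⥤ Scheme.{u}) (c : Cone D) (hc : IsLimit c) (g : ∀ i, D.obj i ⟶ S)
    (hD : ∀ {i j} (f : i ⟶ j), D.map f ≫ g j = g i) (hfin : ∀ i, IsFinite (g i)) (het : ∀ i, Etale (g i))
    (h : c.pt ⟶ S) (hg : ∀ i, c.π.app i ≫ g i = h) [PreservesFiniteLimits (EtCoh.pull h)]
    {ℓ : ℕ} (hℓ : ℓ.Prime) (d : I → ℕ) (hd : ∀ i, ℓ.Coprime (d i))
    (hdeg : ∀ (i : I) (Ω : Type u) [Field Ω] [IsAlgClosed Ω] (η : Spec (CommRingCat.of Ω) ⟶ S),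
      Nat.card {t : Spec (CommRingCat.of Ω) ⟶ D.obj i // t ≫ g i = η} = d i)
    (G : EtCoh.Ab S) (hG : EtAcyc.IsLTorsion {ℓ} G) (n : ℕ) (x : EtCoh.H S G n)
    (hx : EtCore.Hpull h G n x = 0) : x = 0 := by
  haveI : ∀ {i j : I} (f : i ⟶ j), IsAffineHom (D.map f) := fun {i j} f => by
    haveI := hfin i
    haveI := hfin j
    haveI : IsFinite (D.map f ≫ g j) := by rw [hD]; infer_instance
    haveI : IsFinite (D.map f) := IsFinite.of_comp (D.map f) (g j)
    infer_instance
  haveI : ∀ i, CompactSpace (D.obj i) := fun i =>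
    haveI := hfin i; QuasiCompact.compactSpace_of_compactSpace (g i)
  haveI : ∀ i, QuasiSeparatedSpace (D.obj i) := fun i =>
    haveI := hfin i; quasiSeparatedSpace_of_quasiSeparated (g i)
  haveI : ∀ j, PreservesFiniteLimits (EtCoh.pull (EtLimit.uπ c j)) := fun j =>
    EtPullExact.pull_preservesFiniteLimits _
  haveI : ∀ {i j : I} (f : i ⟶ j), PreservesFiniteLimits (EtCoh.pull (D.map f)) := fun f =>
    EtPullExact.pull_preservesFiniteLimits _
  haveI : ∀ i, PreservesFiniteLimits (EtCoh.pull (g i)) := fun i => EtPullExact.pull_preservesFiniteLimits _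
  obtain ⟨i₀⟩ := IsCofiltered.nonempty (C := I)
  let F₀ := (EtCoh.pull (g i₀)).obj G
  let x₀ : EtCoh.H (D.obj i₀) F₀ n := EtCore.Hpull (g i₀) G n x
  let o : Over i₀ := Over.mk (𝟙 i₀)
  have hz : EtCore.Hpull (EtLimit.uπ c i₀) F₀ n x₀ = 0 :=
    (EtMemRange.Hpull_eq_zero_iff (EtLimit.uπ c i₀) (g i₀) h (hg i₀) G n x).2 hx
  obtain ⟨k, a, hk⟩ := EtLimit.pull_inj D c hc i₀ F₀ n o (EtCore.Hpull (D.map o.hom) F₀ n x₀)
    ((EtAcycX.Hpull_HpullVia _ _ _ _ F₀ n x₀).trans hz)
  haveI : PreservesFiniteLimits (EtCoh.pull (D.map a ≫ D.map o.hom)) := EtPullExact.pull_preservesFiniteLimits _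
  have h1 := (EtMemRange.Hpull_eq_zero_iff (D.map a) (D.map o.hom) _ rfl F₀ n x₀).1 hk
  have w : (D.map a ≫ D.map o.hom) ≫ g i₀ = g k := by rw [← D.map_comp, hD]
  have h2 := (EtMemRange.Hpull_eq_zero_iff _ (g i₀) (g k) w G n x).1 h1
  haveI := hfin k
  haveI := het k
  exact Hpull_injective (g k) hℓ (hd k) (hdeg k) G hG n x h2

end Groth.Agent.EtProFin
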